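import Cfsg.Agent.Lib.Cert.SL29.Tw
import Cfsg.Agent.Lib.Cert.Lin3
import Cfsg.Agent.S0242

set_option autoImplicit false
set_option maxRecDepth 100000

namespace Cfsg.Agent.Ct.SL29

open Cfsg.Agent.PC

open Cfsg.Agent.Fi Cfsg.Agent.Ct
def Tf_t : TN := (TN.leaf (nat_lit 0x8a48e471ee033d84ac4a341204343cca61f6ea8cae0404b218c421ca78386262701b0d7cfd60096cdd495a954ce482dab92860e9a441c28414c1daf071089b9ac67a72ea0ac10a703bd46c104298ce78a631c02a4c9e42f1a84c4a76a4cc044f830e18e0fa58ce8e8208b0f1b884da4378fcacd1051c9606d409757384b296b942d343e2c1252489016ddb249e9a61910361283d1993a86e621d7ef093445064b1712dabe906dbce08ae013389153316c1da922950bd28096ae8a8e68e2f2978f0e80d033e18b0a12153b65860615011c0909ec0ccd6c59cb30518dc18725d2d7ed103e4b121376221abc5115c262a70e875ca5248133912a34ed0921f1e02b64466062e3421f58f518028625054e305cb263852f20780839eb4d2330e0aaa671803686bc42e7f266421f2c2271219ab9524059d7898e1b607a3a49500a027a7d0cd0b215ce06808ba2eddf0c8a6490715058a51aecb0e651113458a00939e7103d749df1e531898686f07267e551af1461a4a2d11a848e1c6ab85027033b2198270b8628981509a44a982d593494b2e264a50044cb27620594623dbc120d8fb936900c5))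
noncomputable def Tf (i : ℕ) : ℕ := get9 Tf_t (nat_lit 7) (nat_lit 127) i
noncomputable def T (j c : ℕ) : ℕ := Tf (Nat.add (Nat.mul j (nat_lit 80)) c)
def pv (i : ℕ) : ℕ := Nat.land (Nat.shiftRight (nat_lit 0x78fc4240c55a8796a271a645e6a3a00c7b67cbe54808e6321891d60556aa4b02c61d2d66d27a68514a3b40446387a766433c8a02752b8c9262420821c25b9b3e9498d1670501) (Nat.mul (nat_lit 7) i)) (nat_lit 127)
abbrev P : Type := Matrix.SpecialLinearGroup (Fin 2) K9
instance act : MulAction P (Fin 2 → K9) where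
  smul g v := Matrix.mulVec g.1 v
  one_smul := Matrix.one_mulVec
  mul_smul _ _ _ := (Matrix.mulVec_mulVec ..).symm
def pt (c : ℕ) : Fin 2 → K9 := ![kel (pv c % 9), kel (pv c / 9)]
def al (j : ℕ) : P := [⟨!![kel 6, kel 4; kel 8, kel 5], by rw [Matrix.det_fin_two_of]; decide +kernel⟩, ⟨!![kel 5, kel 8; kel 4, kel 6], by rw [Matrix.det_fin_two_of]; decide +kernel⟩, ⟨!![kel 2, kel 2; kel 1, kel 0], by rw [Matrix.det_fin_two_of]; decide +kernel⟩, ⟨!![kel 0, kel 1; kel 2, kel 2], by rw [Matrix.det_fin_two_of]; decide +kernel⟩, ⟨!![kel 2, kel 4; kel 4, kel 5], by rw [Matrix.det_fin_two_of]; decide +kernel⟩, ⟨!![kel 5, kel 8; kel 8, kel 2], by rw [Matrix.det_fin_two_of]; decide +kernel⟩].getD j 1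
theorem rp : Reps pt 80 al T 6 := show ∀ j < 6, ∀ i < 80, T j i < 80 ∧ Matrix.mulVec (al j).1 (pt i) = pt (T j i) by decide +kernel
theorem inj : Inj pt 80 := show ∀ i < 80, ∀ j < 80, pt i = pt j → i = j by decide +kernel
theorem cardF {F : Type*} [Field F] [Fintype F] (hF : Fintype.card F = 9) : Nat.card (Matrix.SpecialLinearGroup (Fin 2) F) = 720 := by
  have := S0242.result hF 2 (by decide)
  norm_num [Fin.prod_univ_succ] at this
  omega
theorem le0 : CardLE (⊤ : Subgroup P) 720 := ⟨inferInstance, by rw [Subgroup.card_top, cardF rfl]⟩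
def W0_t : TL := (TL.node (TL.node (TL.leaf [nat_lit 2, nat_lit 0, nat_lit 5, nat_lit 5]) (TL.leaf [nat_lit 5, nat_lit 1, nat_lit 4, nat_lit 0, nat_lit 5, nat_lit 1])) (TL.leaf [nat_lit 5, nat_lit 1, nat_lit 4, nat_lit 4]))
noncomputable def W0 (i : ℕ) : List ℕ := TL.get W0_t i
def Q0f_t : TN := (TN.leaf (nat_lit 0x62852cf1245d98400db946811c8a0a685b53f2141726f5b4a5e887c90c5974c009c8011b0474724e19be2a311a97491907332d84d84ac43f5910f2a79196c33738e45050131d366269396407c85ab8cc22485c168ef85099e9a2a56ea46c045383309891fba0b2904986b20c66a562360e0debc7609cb23ed19b15e9d5aa500518c3c74e1a2e5088e1620200128a6869615d48824dfca9240c874af81a9790d6b96e6cc1f1acd73062bdc2742addac504a2cc9c8d54f0404f36385a395345dac6283e1114c2990c1c2d040109223d08d0e80))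
noncomputable def Q0f (i : ℕ) : ℕ := get9 Q0f_t (nat_lit 7) (nat_lit 127) i
noncomputable def Q0 (j c : ℕ) : ℕ := Q0f (Nat.add (Nat.mul j (nat_lit 80)) c)
noncomputable def q0 (j : ℕ) : P := ev al (W0 j)
noncomputable def c0 : ℕ → ℕ := tabE T Q0 W0 (nat_lit 3)
theorem cc0 : Nat.beq (rng c0 (nat_lit 0) (nat_lit 80)) (nat_lit 0) = true := by decide +kernel
theorem hc : ∀ i < 80, c0 i = 0 := by
  have h := zero_lt_zero c0
  have h := zero_lt_add (a := (nat_lit 0)) (n := (nat_lit 80)) (b := (nat_lit 80)) h cc0 rfl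
  exact h
def CV0_t : TN := (TN.leaf (nat_lit 0xd4bd9f3abece2906c3d997b34c471cd56b2a5adac6ab5322568b31e74199c4a56b6759e5739b292c85a2ead752a59bad5241))
noncomputable def CV0 (i : ℕ) : ℕ := get9 CV0_t (nat_lit 5) (nat_lit 31) i
def CV1_t : TN := (TN.leaf (nat_lit 0x200000000000000000000000000000000000000110000000000000000001400430000000960020))
noncomputable def CV1 (i : ℕ) : ℕ := get9 CV1_t (nat_lit 5) (nat_lit 31) i
noncomputable def l0 : Lev := ⟨(nat_lit 0), (nat_lit 80), (nat_lit 2), CV0⟩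
noncomputable def lt : List Lev := [⟨(nat_lit 1), (nat_lit 9), (nat_lit 0), CV1⟩]
theorem ch : Ch pt 80 q0 Q0 3 4 (l0 :: lt) :=
  ⟨inj, reps_tabs (rp) (by decide +kernel) hc, by decide +kernel, le0⟩
def SO_t : TN := (TN.leaf (nat_lit 0x6b90c3ade68320b7ae0a8152d6be10235ca739836320f5adaf7be0c7396d5252d6aa0e529cc63d6b7a5c24a5aa531694a921))
noncomputable def SO (i : ℕ) : ℕ := get9 SO_t (nat_lit 5) (nat_lit 31) i
def SV_t : TN := (TN.leaf (nat_lit 0x24424090a1440a84c090606054352d0c0a8220a1432112a1896a1284b588211096142c431296112c09421430296042960421))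
noncomputable def SV (i : ℕ) : ℕ := get9 SV_t (nat_lit 5) (nat_lit 31) i
def rt (i : ℕ) : ℕ := Nat.land (Nat.shiftRight (nat_lit 0x191e344860a080cd9721f376030000) (Nat.mul (nat_lit 7) i)) (nat_lit 127)
def sz (i : ℕ) : ℕ := Nat.land (Nat.shiftRight (nat_lit 0x99999999111111110) (Nat.mul (nat_lit 4) i)) (nat_lit 15)
noncomputable def s0 : ℕ → ℕ := soE Q0 (nat_lit 2) (nat_lit 80) (nat_lit 4) (nat_lit 16) SV SO rt
theorem ss0 : Nat.beq (rng s0 (nat_lit 0) (nat_lit 80)) (nat_lit 0) = true := by decide +kernel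
theorem hs : ∀ i < 80, s0 i = 0 := by
  have h := zero_lt_zero s0
  have h := zero_lt_add (a := (nat_lit 0)) (n := (nat_lit 80)) (b := (nat_lit 80)) h ss0 rfl
  exact h
theorem hsz : ∀ i ≤ 16, 1 ≤ i → cnt SO i 80 = sz i := by decide +kernel
def B0 : List ℕ := [nat_lit 0, nat_lit 1]
theorem md0 : Md pt 80 B0 al T 6 := ch.md (rp) rfl
theorem card : Nat.card P = 720 := ch.card
instance : Finite P := ch.fin
theorem top : gen al 6 = ⊤ := eq_top_iff.mpr (ch.top ▸ gen_words (by decide +kernel))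
theorem iv : InvOK al inv 6 := fun j hj => by
  have := (by decide +kernel : ∀ j < 6, inv j < 6 ∧ eqE T B0 6 [j, inv j] [] = 0) j hj
  exact ⟨this.1, eq_inv_of_mul_eq_one_left (by simpa using md0.eq this.2)⟩
theorem rl : ∀ w ∈ rels, ev al w = 1 := md0.rels (by decide +kernel)
theorem ub : Ub inv rels 6 (Nat.card P) := fun _ _ _ h1 h2 => card ▸ ub6 h1 h2

end Cfsg.Agent.Ct.SL29
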