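import Cfsg.Agent.Lib.Cert.Mod
import Cfsg.Agent.Lib.PermCert.PL

set_option autoImplicit false
set_option maxRecDepth 100000

namespace Cfsg.Agent.Ct.SL29

open Cfsg.Agent.PC

open Cfsg.Agent.Fi Cfsg.Agent.Ct
namespace L1
def t0x : TN := (TN.leaf (nat_lit 0x40480716223b5668a44191201))
def t1x : TN := (TN.leaf (nat_lit 0x506a0b01201b786cf00488202))
def t2x : TN := (TN.leaf (nat_lit 0x1126704459b11066881d02a03))
def t3x : TN := (TN.leaf (nat_lit 0x40722501488c0322082103204))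
def tt : TN := (TN.node (TN.node (TN.node (TN.node t0x (TN.leaf (nat_lit 0))) (TN.node (TN.leaf (nat_lit 0)) (TN.leaf (nat_lit 0)))) (TN.node (TN.node t2x (TN.leaf (nat_lit 0))) (TN.node (TN.leaf (nat_lit 0)) (TN.leaf (nat_lit 0))))) (TN.node (TN.node (TN.node t1x (TN.leaf (nat_lit 0))) (TN.node (TN.leaf (nat_lit 0)) (TN.leaf (nat_lit 0)))) (TN.node (TN.node t3x (TN.leaf (nat_lit 0))) (TN.node (TN.leaf (nat_lit 0)) (TN.leaf (nat_lit 0))))))
noncomputable def T (j c : ℕ) : ℕ := getL tt (nat_lit 11) (nat_lit 15) j c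
noncomputable def E (j c : ℕ) : ℕ := getL tt (nat_lit 11) (nat_lit 2047) j c
theorem T_eq (j c : ℕ) : T j c = E j c % 16 :=
  getL_mod (a := 4) (b := 11) _ _ (by norm_num) (by norm_num) (by norm_num) (by norm_num) j c
def rels : List (List ℕ) := [[nat_lit 0, nat_lit 0, nat_lit 0], [nat_lit 2, nat_lit 2, nat_lit 2], [nat_lit 2, nat_lit 0, nat_lit 3, nat_lit 1]]
def inv (i : ℕ) : ℕ := Nat.land (Nat.shiftRight (nat_lit 17601) (Nat.mul (nat_lit 3) i)) (nat_lit 7)
def X_t : TN := (TN.leaf (nat_lit 0))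
noncomputable def X (i : ℕ) : ℕ := get9 X_t (nat_lit 1) (nat_lit 1) i
def Jp_t : TN := (TN.leaf (nat_lit 0))
noncomputable def Jp (i : ℕ) : ℕ := get9 Jp_t (nat_lit 1) (nat_lit 1) i
def J_t : TN := (TN.leaf (nat_lit 0))
noncomputable def J (k : ℕ) : ℕ := getV J_t Jp k
def Pa_t : TN := (TN.leaf (nat_lit 0x22288e1284d0240d0040400))
noncomputable def Pa (i : ℕ) : ℕ := get9 Pa_t (nat_lit 10) (nat_lit 1023) i
def W_t : TL := (TL.node (TL.node (TL.node (TL.leaf [nat_lit 2, nat_lit 0, nat_lit 1, nat_lit 1]) (TL.leaf [nat_lit 4099, nat_lit 1, nat_lit 3, nat_lit 1, nat_lit 2])) (TL.leaf [nat_lit 4102, nat_lit 0, nat_lit 3, nat_lit 0, nat_lit 2])) (TL.node (TL.node (TL.leaf [nat_lit 2050, nat_lit 2, nat_lit 3, nat_lit 3]) (TL.leaf [nat_lit 4098, nat_lit 1, nat_lit 2, nat_lit 1, nat_lit 3])) (TL.leaf [nat_lit 4103, nat_lit 0, nat_lit 2, nat_lit 0, nat_lit 3])))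
noncomputable def W (i : ℕ) : List ℕ := TL.get W_t i
def WA_t : TL := (TL.leaf [nat_lit 0])
noncomputable def WA (i : ℕ) : List ℕ := TL.get WA_t i
noncomputable def row : ℕ → ℕ := hRow (nat_lit 8) (nat_lit 4) (nat_lit 0) (nat_lit 16) (nat_lit 16) (nat_lit 256) (nat_lit 256) (nat_lit 256) (nat_lit 0) E X Pa inv (wfun (nat_lit 6) W_t)
noncomputable def aux : ℕ → ℕ := hAux (nat_lit 9) (nat_lit 4) (nat_lit 16) (nat_lit 256) (nat_lit 256) (nat_lit 2) (nat_lit 2) (nat_lit 256) (nat_lit 0) E X J Pa inv WA_t.get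
theorem r0 : Nat.beq (rng row (nat_lit 0) (nat_lit 9)) (nat_lit 0) = true := by decide +kernel
theorem rows : ∀ i < 9, row i = 0 := by
  have h := zero_lt_zero row
  have h := zero_lt_add (a := (nat_lit 0)) (n := (nat_lit 9)) (b := (nat_lit 9)) h r0 rfl
  exact h
theorem auxs : ∀ i < 0, aux i = 0 := by
  have h := zero_lt_zero aux
  exact h
theorem closes.{u} : ClosesT.{u} inv rels 4 0 9 T :=
  hc_closes (N1 := (nat_lit 8)) rfl T_eq (by decide +kernel) rows auxs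
theorem T_inv : ∀ c < 9, ∀ j < 4, T j c < 9 ∧ T (inv j) (T j c) = c := 
  hc_inv (inv := inv) (N1 := (nat_lit 8)) rfl T_eq rows
end L1

namespace L2
def t0x : TN := (TN.leaf (nat_lit 0xa453dc04e84536804c3009c802620b29802f082892021400d0209f400b8209c6090c801920062003e380a882c0208fd113d5851ca2cb082506137580d54030385102093184c942455809542c1385082090184b122ba0823ceea858ae062c918920208c1849122393ba8040462aacc800b20028a22d20a78821d18af0623b0821c6117404a44036100c4800620014402b40054829220844402318a6c621a08208610910058628e1883420811841040081000c2080))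
def t1x : TN := (TN.leaf (nat_lit 0xa813dad4e881366d4c300e0a049200988025600e420a0580c1003368105002d580b8a03c280edf6be480e8801920061402a500898027200d82094534d4e3453007c80310824d2d3458d20e34330070802b08240cfbd4805500282b52c63ca54cbc802308230404744319002110110a01b2806840422002c800a18f00633f2005820873b63c4037100c8a00e28034402c100a4800620014402418e78631d2002020821005c639218c448003082044009100104000))
def t2x : TN := (TN.leaf (nat_lit 0xa813dd04e68136904c280d820a40828c61c9600f4d04b480c94030380b18041500ac209718701c03e400a42096186f02095186e820945008512c6600d42093186d0e01f4331152b1587282090186b8a01c33308208f4331d1228506dc208c18699322f1012121aa3bc9d21b810114208918678404308220619b0821c6199100fc403b100e4f1a0100cc208418648402d3bc88208318638402508208618b10074401a10060208118618401110034400a100142080))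
def t3x : TN := (TN.leaf (nat_lit 0xa573de04e65736a04c38119802f2012020a3480a520360827d203108270e02b5af08803f0825db63e5b11c803b0825880390825540205809c8b4b5acd480330824d0bc5580c12a4450090802d08240cbc34ad0540223b0f5202840084802508230404a10125000f4b0dd0014330c8801d082248a2c20068208820060208710100403c100e84038100d0801108210402e100a8800d0820c402620028208210078401b10064800508204401210038400b100184000))
def t4x : TN := (TN.leaf (nat_lit 0x9812020b74810420aa08290c042881298036881016043600e080234d12484c608268404f400d020966112de01b896fce01e5913a244c500c935470824d202971111402d616ec404d626cde5c5496e5e43c680b165ae212c5049d48061843a50065463e20045802630080208920028a00b2a694a4352005ce012300392414192ac403d082182085082104030100bc20832905440281009c20821008840211007c401c1903066101963464881003c20801001c4001))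
def t5x : TN := (TN.leaf (nat_lit 0x83018039082c24038680f609495010e484f500d8a042800b9e03351f18a6ca421360547900ed60240825a002c680c5a026500b56e451013973c830070ee3f680bd2937280a4209208245802a4d2c9892b2005c404c44ed0208e082356e2230074404b19510208b08228a82108224c8ba480a0208871af040414a0950e2719a6c403e3003d4018100d4ce1a19e8c80060820ca89920014800722478671f10080800408204401510050401310040400c082004002))
def tt : TN := (TN.node (TN.node (TN.node (TN.node t0x (TN.leaf (nat_lit 0))) (TN.node t4x (TN.leaf (nat_lit 0)))) (TN.node (TN.node t2x (TN.leaf (nat_lit 0))) (TN.node (TN.leaf (nat_lit 0)) (TN.leaf (nat_lit 0))))) (TN.node (TN.node (TN.node t1x (TN.leaf (nat_lit 0))) (TN.node t5x (TN.leaf (nat_lit 0)))) (TN.node (TN.node t3x (TN.leaf (nat_lit 0))) (TN.node (TN.leaf (nat_lit 0)) (TN.leaf (nat_lit 0))))))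
noncomputable def T (j c : ℕ) : ℕ := getL tt (nat_lit 18) (nat_lit 127) j c
noncomputable def E (j c : ℕ) : ℕ := getL tt (nat_lit 18) (nat_lit 262143) j c
theorem T_eq (j c : ℕ) : T j c = E j c % 128 :=
  getL_mod (a := 7) (b := 18) _ _ (by norm_num) (by norm_num) (by norm_num) (by norm_num) j c
def rels : List (List ℕ) := [[nat_lit 0, nat_lit 0, nat_lit 0], [nat_lit 2, nat_lit 2, nat_lit 2], [nat_lit 2, nat_lit 0, nat_lit 3, nat_lit 1], [nat_lit 4, nat_lit 4, nat_lit 4, nat_lit 4, nat_lit 4], [nat_lit 0, nat_lit 5, nat_lit 0, nat_lit 5, nat_lit 0, nat_lit 5], [nat_lit 4, nat_lit 2, nat_lit 4, nat_lit 3, nat_lit 1, nat_lit 5, nat_lit 3, nat_lit 1], [nat_lit 4, nat_lit 3, nat_lit 4, nat_lit 4, nat_lit 1, nat_lit 5, nat_lit 2, nat_lit 1], [nat_lit 5, nat_lit 2, nat_lit 5, nat_lit 5, nat_lit 0, nat_lit 4, nat_lit 3, nat_lit 0]]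
def inv (i : ℕ) : ℕ := Nat.land (Nat.shiftRight (nat_lit 0x1a54c1) (Nat.mul (nat_lit 3) i)) (nat_lit 7)
def X_t : TN := (TN.leaf (nat_lit 0))
noncomputable def X (i : ℕ) : ℕ := get9 X_t (nat_lit 1) (nat_lit 1) i
def Jp_t : TN := (TN.leaf (nat_lit 0))
noncomputable def Jp (i : ℕ) : ℕ := get9 Jp_t (nat_lit 1) (nat_lit 1) i
def J_t : TN := (TN.leaf (nat_lit 0))
noncomputable def J (k : ℕ) : ℕ := getV J_t Jp k
def Pa_t : TN := (TN.leaf (nat_lit 0xb016b74ac16aa4891224288ca233888220187ce1f0870e1c0869217285ce1648596162858e152854e142850214184d213284ce13084c61258456102840e10084060f283c20e583558c2630d8c063058b562958946255892624d885620988361c987361c187161918546111842610d83460d583260cd024408902340810214055012404d01040448042014000))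
noncomputable def Pa (i : ℕ) : ℕ := get9 Pa_t (nat_lit 14) (nat_lit 16383) i
def W_t : TL := (TL.node (TL.node (TL.node (TL.node (TL.node (TL.node (TL.leaf [nat_lit 2, nat_lit 0, nat_lit 1, nat_lit 1]) (TL.leaf [nat_lit 8196, nat_lit 0, nat_lit 4, nat_lit 1, nat_lit 4, nat_lit 1, nat_lit 4])) (TL.leaf [nat_lit 10241, nat_lit 5, nat_lit 2, nat_lit 4, nat_lit 3, nat_lit 1, nat_lit 5, nat_lit 3, nat_lit 1])) (TL.node (TL.node (TL.leaf [nat_lit 8194, nat_lit 5, nat_lit 1, nat_lit 4, nat_lit 1, nat_lit 4, nat_lit 1]) (TL.leaf [nat_lit 12299, nat_lit 4, nat_lit 2, nat_lit 1, nat_lit 4, nat_lit 3, nat_lit 4, nat_lit 4, nat_lit 1])) (TL.leaf [nat_lit 8193, nat_lit 1, nat_lit 5, nat_lit 0, nat_lit 5, nat_lit 0, nat_lit 5]))) (TL.node (TL.node (TL.node (TL.leaf [nat_lit 4099, nat_lit 1, nat_lit 3, nat_lit 1, nat_lit 2]) (TL.leaf [nat_lit 12296, nat_lit 1, nat_lit 5, nat_lit 5, nat_lit 2, nat_lit 5, nat_lit 0, nat_lit 3, nat_lit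 4])) (TL.leaf [nat_lit 12301, nat_lit 3, nat_lit 1, nat_lit 4, nat_lit 3, nat_lit 4, nat_lit 4, nat_lit 1, nat_lit 5])) (TL.node (TL.leaf [nat_lit 14348, nat_lit 5, nat_lit 3, nat_lit 4, nat_lit 1, nat_lit 2, nat_lit 5, nat_lit 1, nat_lit 4]) (TL.leaf [nat_lit 12291, nat_lit 2, nat_lit 4, nat_lit 4, nat_lit 1, nat_lit 5, nat_lit 2, nat_lit 1, nat_lit 4])))) (TL.node (TL.node (TL.node (TL.node (TL.leaf [nat_lit 4102, nat_lit 0, nat_lit 3, nat_lit 0, nat_lit 2]) (TL.leaf [nat_lit 14349, nat_lit 2, nat_lit 0, nat_lit 5, nat_lit 2, nat_lit 5, nat_lit 5, nat_lit 0, nat_lit 4])) (TL.leaf [nat_lit 14340, nat_lit 3, nat_lit 5, nat_lit 1, nat_lit 4, nat_lit 4, nat_lit 3, nat_lit 4, nat_lit 1])) (TL.node (TL.node (TL.leaf [nat_lit 12300, nat_lit 4, nat_lit 2, nat_lit 5, nat_lit 0, nat_lit 3, nat_lit 4, nat_lit 0, nat_lit 5]) (TL.leaf [nat_lit 12302, nat_lit 3, nat_lit 5, nat_lit 0, nat_lit 3, nat_lit 4, nat_lit 0, nat_lit 5, nat_lit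 5])) (TL.leaf [nat_lit 10245, nat_lit 5, nat_lit 3, nat_lit 1, nat_lit 5, nat_lit 3, nat_lit 1, nat_lit 4, nat_lit 2]))) (TL.node (TL.node (TL.node (TL.leaf [nat_lit 6146, nat_lit 4, nat_lit 5, nat_lit 5, nat_lit 5, nat_lit 5]) (TL.leaf [nat_lit 10256, nat_lit 4, nat_lit 0, nat_lit 2, nat_lit 4, nat_lit 0, nat_lit 2, nat_lit 5, nat_lit 3])) (TL.leaf [nat_lit 4097, nat_lit 3, nat_lit 0, nat_lit 3, nat_lit 1])) (TL.node (TL.leaf [nat_lit 6145, nat_lit 5, nat_lit 4, nat_lit 4, nat_lit 4, nat_lit 4]) (TL.leaf [nat_lit 10253, nat_lit 2, nat_lit 1, nat_lit 4, nat_lit 2, nat_lit 4, nat_lit 3, nat_lit 1, nat_lit 5]))))) (TL.node (TL.node (TL.node (TL.node (TL.node (TL.leaf [nat_lit 2050, nat_lit 2, nat_lit 3, nat_lit 3]) (TL.leaf [nat_lit 14350, nat_lit 2, nat_lit 4, nat_lit 1, nat_lit 2, nat_lit 5, nat_lit 1, nat_lit 4, nat_lit 4])) (TL.leaf [nat_lit 12304, nat_lit 4, nat_lit 0, nat_lit 3, nat_lit 4, nat_lit 0, nat_lit 5, nat_lit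 5, nat_lit 2])) (TL.node (TL.node (TL.leaf [nat_lit 10252, nat_lit 4, nat_lit 3, nat_lit 5, nat_lit 0, nat_lit 2, nat_lit 4, nat_lit 0, nat_lit 2]) (TL.leaf [nat_lit 10243, nat_lit 3, nat_lit 4, nat_lit 3, nat_lit 1, nat_lit 5, nat_lit 3, nat_lit 1, nat_lit 4])) (TL.leaf [nat_lit 14345, nat_lit 1, nat_lit 4, nat_lit 3, nat_lit 0, nat_lit 5, nat_lit 2, nat_lit 5, nat_lit 5]))) (TL.node (TL.node (TL.node (TL.leaf [nat_lit 4098, nat_lit 1, nat_lit 2, nat_lit 1, nat_lit 3]) (TL.leaf [nat_lit 10246, nat_lit 5, nat_lit 0, nat_lit 2, nat_lit 5, nat_lit 3, nat_lit 5, nat_lit 0, nat_lit 2])) (TL.leaf [nat_lit 2049, nat_lit 3, nat_lit 2, nat_lit 2])) (TL.node (TL.leaf [nat_lit 14347, nat_lit 5, nat_lit 3, nat_lit 0, nat_lit 5, nat_lit 2, nat_lit 5, nat_lit 5, nat_lit 0]) (TL.leaf [nat_lit 10248, nat_lit 1, nat_lit 2, nat_lit 5, nat_lit 3, nat_lit 5, nat_lit 0, nat_lit 2, nat_lit 4])))) (TL.node (TL.node (TL.node (TL.node (TL.leaf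 [nat_lit 4103, nat_lit 0, nat_lit 2, nat_lit 0, nat_lit 3]) (TL.leaf [nat_lit 4101, nat_lit 2, nat_lit 1, nat_lit 2, nat_lit 0])) (TL.leaf [nat_lit 12303, nat_lit 0, nat_lit 4, nat_lit 3, nat_lit 4, nat_lit 4, nat_lit 1, nat_lit 5, nat_lit 2])) (TL.node (TL.node (TL.leaf [nat_lit 12294, nat_lit 5, nat_lit 0, nat_lit 5, nat_lit 5, nat_lit 2, nat_lit 5, nat_lit 0, nat_lit 3]) (TL.leaf [nat_lit 12290, nat_lit 1, nat_lit 3, nat_lit 4, nat_lit 0, nat_lit 5, nat_lit 5, nat_lit 2, nat_lit 5])) (TL.leaf [nat_lit 12297, nat_lit 0, nat_lit 5, nat_lit 2, nat_lit 1, nat_lit 4, nat_lit 3, nat_lit 4, nat_lit 4]))) (TL.node (TL.node (TL.node (TL.leaf [nat_lit 8195, nat_lit 4, nat_lit 0, nat_lit 5, nat_lit 0, nat_lit 5, nat_lit 0]) (TL.leaf [nat_lit 12289, nat_lit 5, nat_lit 3, nat_lit 4, nat_lit 4, nat_lit 1, nat_lit 5, nat_lit 2, nat_lit 1])) (TL.leaf [nat_lit 4104, nat_lit 2, nat_lit 0, nat_lit 2, nat_lit 1])) (TL.node (TL.leaf [nat_lit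 14352, nat_lit 5, nat_lit 1, nat_lit 2, nat_lit 5, nat_lit 1, nat_lit 4, nat_lit 4, nat_lit 3]) (TL.leaf [nat_lit 1, nat_lit 1, nat_lit 0, nat_lit 0]))))))
noncomputable def W (i : ℕ) : List ℕ := TL.get W_t i
def WA_t : TL := (TL.leaf [nat_lit 0])
noncomputable def WA (i : ℕ) : List ℕ := TL.get WA_t i
noncomputable def row : ℕ → ℕ := hRow (nat_lit 79) (nat_lit 6) (nat_lit 4) (nat_lit 128) (nat_lit 64) (nat_lit 8192) (nat_lit 2048) (nat_lit 2048) (nat_lit 0) E X Pa inv (wfun (nat_lit 44) W_t)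
noncomputable def aux : ℕ → ℕ := hAux (nat_lit 80) (nat_lit 6) (nat_lit 128) (nat_lit 8192) (nat_lit 2048) (nat_lit 2) (nat_lit 2) (nat_lit 2048) (nat_lit 0) E X J Pa inv WA_t.get
theorem r0 : Nat.beq (rng row (nat_lit 0) (nat_lit 80)) (nat_lit 0) = true := by decide +kernel
theorem rows : ∀ i < 80, row i = 0 := by
  have h := zero_lt_zero row
  have h := zero_lt_add (a := (nat_lit 0)) (n := (nat_lit 80)) (b := (nat_lit 80)) h r0 rfl
  exact h
theorem auxs : ∀ i < 0, aux i = 0 := by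
  have h := zero_lt_zero aux
  exact h
theorem closes.{u} : ClosesT.{u} inv rels 6 4 80 T :=
  hc_closes (N1 := (nat_lit 79)) rfl T_eq (by decide +kernel) rows auxs
theorem T_inv : ∀ c < 80, ∀ j < 6, T j c < 80 ∧ T (inv j) (T j c) = c := 
  hc_inv (inv := inv) (N1 := (nat_lit 79)) rfl T_eq rows
end L2

def rels : List (List ℕ) := [[nat_lit 0, nat_lit 0, nat_lit 0], [nat_lit 2, nat_lit 2, nat_lit 2], [nat_lit 2, nat_lit 0, nat_lit 3, nat_lit 1], [nat_lit 4, nat_lit 4, nat_lit 4, nat_lit 4, nat_lit 4], [nat_lit 0, nat_lit 5, nat_lit 0, nat_lit 5, nat_lit 0, nat_lit 5], [nat_lit 4, nat_lit 2, nat_lit 4, nat_lit 3, nat_lit 1, nat_lit 5, nat_lit 3, nat_lit 1], [nat_lit 4, nat_lit 3, nat_lit 4, nat_lit 4, nat_lit 1, nat_lit 5, nat_lit 2, nat_lit 1], [nat_lit 5, nat_lit 2, nat_lit 5, nat_lit 5, nat_lit 0, nat_lit 4, nat_lit 3, nat_lit 0]]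
def inv (i : ℕ) : ℕ := Nat.land (Nat.shiftRight (nat_lit 152769) (Nat.mul (nat_lit 3) i)) (nat_lit 7)
theorem ub4 {Γ : Type} [Group Γ] {g : ℕ → Γ} (h1 : InvOK g inv 6) (h2 : ∀ w ∈ rels, ev g w = 1) : CardLE (gen g 4) 9 :=
  tw h1 h2 L1.closes (by decide +kernel) (cardLE_gen_zero g)
theorem ub6 {Γ : Type} [Group Γ] {g : ℕ → Γ} (h1 : InvOK g inv 6) (h2 : ∀ w ∈ rels, ev g w = 1) : CardLE (gen g 6) 720 :=
  tw h1 h2 L2.closes (by decide +kernel) (ub4 h1 h2)

end Cfsg.Agent.Ct.SL29
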